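import Cfsg.Agent.OddSixteen.Statements
import Cfsg.Agent.OddStep.BG15.Exports
import Cfsg.Agent.OddStep.Statements1423
import Cfsg.Agent.OddStep.SigmaNil
import Cfsg.Agent.OddCount.Counting
import Cfsg.Agent.OddStep14.Statements
import Cfsg.Agent.OddPairs.Inputs
import Cfsg.Agent.OddCount.Cover
import Cfsg.Agent.OddCount.Neighbour
import Cfsg.Agent.OddCount.SignalizerBase
import Cfsg.Agent.OddStep.BG15.Signalizer
import Cfsg.Agent.Uniqueness.NonabelianUnique
import Cfsg.Agent.Uniqueness.TauTwoNonabelian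
import Cfsg.Agent.S1350
import Cfsg.Agent.S1404
import Cfsg.Agent.S1405
import Cfsg.Agent.S1412
import Cfsg.Agent.S1414
import Cfsg.Agent.S1415

/-!
Composition of the sections of the local analysis: the later statements from the open leaves.
-/

set_option autoImplicit false

namespace CfsgLib.OddSixteen

open Cfsg CfsgLib

universe u

/-- The statements of sections 12 and 13 from which the others follow. -/
structure LocalLeaves : Prop where
  p1416 : OddStep.P1416.{u}
  p1417 : OddStep.P1417.{u}
  p1418 : OddStep.P1418.{u}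
  p1421 : OddStep.P1421.{u}
  p1427 : OddStep.P1427.{u}
  p1428 : OddStep.P1428.{u}
  p1429 : OddStep.P1429.{u}
  p1430 : OddStep.P1430.{u}

namespace LocalLeaves

variable (L : LocalLeaves.{u})
include L

theorem p1419 : OddStep.P1419.{u} :=
  Uniqueness.nonabelian_tau_two L.p1416 L.p1417 L.p1418

theorem p1420 : OddStep.P1420.{u} :=
  SigmaNil.p1420_of @Cfsg.Agent.S1415.result L.p1416 L.p1417 L.p1418

theorem p1422 : OddStep.P1422.{u} := Uniqueness.nonabelian_unique L.p1416 L.p1417

theorem p1423 : OddStep.P1423.{u} := SigmaEmbed.p1423_of L.p1422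

theorem p1424 : OddStep.P1424.{u} := SigmaEmbed.p1424_of L.p1420

theorem p1425 : OddStep.P1425.{u} := SigmaEmbed.p1425_of L.p1417 L.p1420

theorem p1426 : OddStep.P1426.{u} := SigmaEmbed.p1426_of L.p1422 L.p1420

theorem sigmaFacts : OddCount.SigmaFacts.{u} :=
  ⟨@Cfsg.Agent.S1414.result, L.p1417, L.p1422, L.p1423, L.p1426, L.p1427, L.p1428⟩

theorem sectionFacts : OddCount.SectionFacts.{u} :=
  ⟨L.sigmaFacts, L.p1418, L.p1420, L.p1424, L.p1425, L.p1429, L.p1430⟩

theorem inputs : OddStep14.Inputs.{u} := fun hG => OddCount.earlier L.sectionFacts hG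

theorem p1374 : OddStep.P1374.{u} := OddCount.p1374_of L.sectionFacts

theorem p1375 : OddStep.P1375.{u} := OddCount.p1375_of L.sectionFacts

theorem p1377 : OddStep.P1377.{u} := OddCount.p1377_of L.sectionFacts

theorem p1378 : OddStep.P1378.{u} := OddCount.p1378_of L.sigmaFacts

theorem p1352 : OddStep.P1352.{u} := OddStep14.p1352_of L.inputs

theorem p1353 : OddStep.P1353.{u} := OddStep14.p1353_of L.inputs

theorem p1354 : OddStep.P1354.{u} := OddStep14.p1354_of L.inputs

theorem p1431 : OddStep.P1431.{u} := OddStep14.p1431_of L.inputs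

theorem p1432 : OddStep.P1432.{u} := OddStep14.p1432_of L.inputs

theorem p1433 : OddStep.P1433.{u} := OddStep14.p1433_of L.inputs L.p1375

theorem deps : OddPairs.Deps.{u} := OddPairs.deps_of L.sectionFacts L.p1419

theorem kappaTauOne : OddStep14.KappaTauOne.{u} := OddPairs.kappaTauOne_of L.deps L.inputs

theorem p1351 : OddStep.P1351.{u} := OddPairs.p1351_of L.deps

theorem p1434 : OddStep.P1434.{u} := OddPairs.p1434_of L.deps L.inputs

theorem p1364 : OddStep.P1364.{u} := OddPairs.p1364_of L.deps

theorem p1365 : OddStep.P1365.{u} := OddPairs.p1365_of L.deps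

theorem p1366 : OddStep.P1366.{u} := OddPairs.p1366_of L.deps

theorem p1367 : OddStep.P1367.{u} := OddPairs.p1367_of L.deps

theorem p1368 : OddStep.P1368.{u} := OddPairs.p1368_of L.deps

theorem p1369 : OddStep.P1369.{u} := OddPairs.p1369_of L.deps

theorem p1370 : OddStep.P1370.{u} := OddPairs.p1370_of L.deps

theorem p1371 : OddStep.P1371.{u} := OddPairs.p1371_of L.deps

theorem prior12 : OddStep.BG15.Prior12.{u} :=
  ⟨@Cfsg.Agent.S1412.result, @Cfsg.Agent.S1414.result, @Cfsg.Agent.S1415.result, L.p1417, L.p1418,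
    L.p1420, L.p1421, L.p1422, L.p1426, L.p1429, L.p1430⟩

theorem prior14 : OddStep.BG15.Prior14.{u} :=
  ⟨L.p1351, L.p1352, L.p1354, L.p1364, L.p1365, L.p1366, L.p1369, L.p1374, L.p1378, L.p1431,
    L.p1432⟩

theorem p1355 : OddStep.P1355.{u} := OddStep.BG15.p1355_of L.prior12 L.prior14

theorem p1356 : OddStep.P1356.{u} := OddStep.BG15.p1356_of L.prior12 L.prior14

theorem p1357 : OddStep.P1357.{u} := OddStep.BG15.p1357_of L.prior12 L.prior14

theorem p1372 : OddStep.P1372.{u} := OddStep.BG15.p1372_of L.prior12 L.prior14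

theorem p1373 : OddStep.P1373.{u} := OddStep.BG15.p1373_of L.prior12 L.prior14

theorem p1437 : OddStep.P1437.{u} := OddStep.BG15.p1437_of L.prior12 L.prior14

theorem p1438 : OddStep.P1438.{u} := OddStep.BG15.p1438_of L.prior12 L.prior14

theorem p1439 : OddStep.P1439.{u} := OddStep.BG15.p1439_of L.prior12 L.prior14

theorem p1379 : OddStep.P1379.{u} := OddCount.p1379_of L.sectionFacts L.p1366 L.p1369

theorem p1435 : OddStep.P1435.{u} := OddStep.BG15.p1435_of L.prior12 L.prior14

theorem p1376 : OddStep.P1376.{u} :=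
  OddCount.p1376_of L.sectionFacts L.p1351 L.p1352 L.p1366 L.p1419 L.p1435

theorem p1436 : OddStep.P1436.{u} :=
  OddCount.p1436_of L.sectionFacts L.p1351 L.p1352 L.p1366 L.p1434 L.p1435

theorem p1363 : OddStep.P1363.{u} :=
  OddStep14.p1363_of L.inputs L.p1366 L.p1435

/-- The input of section 16. -/
theorem earlier (h1440 : NonTIFitting.{u}) :
    Earlier.{u} :=
  { p1350 := @Cfsg.Agent.S1350.result
    p1351 := L.p1351
    p1352 := L.p1352
    p1354 := L.p1354
    p1355 := L.p1355
    p1356 := L.p1356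
    p1357 := L.p1357
    p1363 := L.p1363
    p1364 := L.p1364
    p1365 := L.p1365
    p1366 := L.p1366
    p1368 := L.p1368
    p1369 := L.p1369
    p1370 := L.p1370
    p1371 := L.p1371
    p1372 := L.p1372
    p1375 := L.p1375
    p1376 := L.p1376
    p1378 := L.p1378
    p1379 := L.p1379
    p1404 := @Cfsg.Agent.S1404.result
    p1405 := @Cfsg.Agent.S1405.result
    p1417 := L.p1417
    p1420 := L.p1420
    p1421 := L.p1421
    p1422 := L.p1422
    p1425 := L.p1425
    p1430 := L.p1430
    p1431 := L.p1431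
    p1432 := L.p1432
    p1436 := L.p1436
    p1438 := L.p1438
    p1440 := h1440 }

end LocalLeaves

end CfsgLib.OddSixteen
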